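import Cfsg.Agent.H421.GU.Orb
import Cfsg.Agent.H531.GU.Mac

/-!
# S4537: the orthogonality sum over the orbits (helper421)

* `card_level` : the torus of level `k` has order `|Q ^ k - 1|`; `exists_gen`; `conj_th`;
* `sum_level` : orthogonality of its characters; `sum_periodic`; `sign_pow`;
* `orth_sum` : the sum over the orbits.
-/

set_option autoImplicit false
set_option linter.unusedSectionVars false

open scoped ComplexConjugate

namespace Cfsg.Agent.H421.GU

open Cfsg.Agent.H615.GU Cfsg.Agent.H577.GLB.Std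

section

variable {K : Type*} [Field K] {θ : K →*₀ ℂ} {Q : ℤ} {M N : ℕ} {k : ℕ}

theorem pow_eq_self_iff {x : Kˣ} : x ^ (Q ^ k) = x ↔ x ^ (Q ^ k - 1).natAbs = 1 := by
  rw [← zpow_natCast, Int.natCast_natAbs]
  have h1 : x ^ (Q ^ k) = x ↔ x ^ (Q ^ k - 1) = 1 := by
    rw [zpow_sub, zpow_one, mul_inv_eq_one]
  rw [h1]
  rcases abs_choice (Q ^ k - 1) with h | h <;> rw [h]
  rw [zpow_neg, inv_eq_one]

/-- a generator of the torus of level `k` -/
theorem exists_gen [Finite K] (hM : Nat.card Kˣ = M) (hk : (Q ^ k - 1).natAbs ∣ M) :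
    ∃ x : Kˣ, orderOf x = (Q ^ k - 1).natAbs := by
  obtain ⟨g, hg⟩ := IsCyclic.exists_ofOrder_eq_natCard (α := Kˣ)
  obtain ⟨s, hs⟩ := hk
  have hM0 : 0 < M := by
    rw [← hM]
    exact Nat.card_pos
  have hs0 : 0 < s := by
    rcases Nat.eq_zero_or_pos s with h | h
    · rw [h, mul_zero] at hs
      omega
    · exact h
  refine ⟨g ^ s, ?_⟩
  rw [orderOf_pow' g hs0.ne', hg, hM, hs, Nat.gcd_eq_right (dvd_mul_left _ _), Nat.mul_div_cancel _ hs0]

theorem card_level [Finite K] (hM : Nat.card Kˣ = M) (hk : (Q ^ k - 1).natAbs ∣ M) :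
    Nat.card {x : Kˣ // x ^ (Q ^ k) = x} = (Q ^ k - 1).natAbs := by
  classical
  have : Fintype Kˣ := Fintype.ofFinite _
  obtain ⟨x, hx⟩ := exists_gen hM hk
  have hL : 0 < (Q ^ k - 1).natAbs := by
    rw [← hx]
    exact orderOf_pos x
  have h1 : Nat.card {x : Kˣ // x ^ (Q ^ k) = x} = (Finset.univ.filter fun x : Kˣ => x ^ (Q ^ k - 1).natAbs = 1).card := by
    rw [Nat.card_eq_fintype_card, Fintype.card_subtype]
    congr 1
    ext y
    simp [pow_eq_self_iff]
  rw [h1]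
  refine le_antisymm (IsCyclic.card_pow_eq_one_le hL) ?_
  have h2 : (Finset.univ.filter fun y : Kˣ => y ∈ Subgroup.zpowers x).card = (Q ^ k - 1).natAbs := by
    rw [← hx, ← Nat.card_zpowers, Nat.card_eq_fintype_card, Fintype.card_subtype]
  refine h2.ge.trans (Finset.card_le_card fun y hy => ?_)
  rw [Finset.mem_filter] at hy ⊢
  refine ⟨Finset.mem_univ _, ?_⟩
  obtain ⟨n, rfl⟩ := Subgroup.mem_zpowers_iff.1 hy.2
  rw [← zpow_natCast, ← zpow_mul, mul_comm, zpow_mul, zpow_natCast, ← hx, pow_orderOf_eq_one, one_zpow]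

theorem conj_th [Finite K] (x : Kˣ) : conj (θ (x : K)) = θ ((x⁻¹ : Kˣ) : K) := by
  have h1 : θ (x : K) ^ Nat.card Kˣ = 1 := by
    rw [← map_pow, ← Units.val_pow_eq_pow_val, pow_card_eq_one', Units.val_one, map_one]
  have h2 : ‖θ (x : K)‖ = 1 := Complex.norm_eq_one_of_pow_eq_one h1 (Nat.card_pos).ne'
  rw [Units.val_inv_eq_inv_val, map_inv₀, Complex.inv_def, Complex.normSq_eq_norm_sq, h2]
  simp

variable [NeZero M]

open Classical in
/-- orthogonality of the characters of the torus of level `k` -/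
theorem sum_level [Finite K] [Fintype Kˣ] (hinj : Function.Injective θ) (hM : Nat.card Kˣ = M)
    (hk : (Q ^ k - 1).natAbs ∣ M) {c c' : ZMod M} (hc : TorZ Q M k c) (hc' : TorZ Q M k c') :
    ∑ x : Kˣ, (if x ^ (Q ^ k) = x then
      conj (θ ((x ^ expoZ Q M k c : Kˣ) : K)) * θ ((x ^ expoZ Q M k c' : Kˣ) : K) else 0) =
      if c' = c then ((Q ^ k - 1).natAbs : ℂ) else 0 := by
  have hM0 : (M : ℤ) ≠ 0 := by exact_mod_cast NeZero.ne M
  have hδ := H614.GLn.RSt.torZ_sub k hc' hc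
  set δ := c' - c with hδd
  have h1 : ∀ x : Kˣ, x ^ (Q ^ k) = x →
      conj (θ ((x ^ expoZ Q M k c : Kˣ) : K)) * θ ((x ^ expoZ Q M k c' : Kˣ) : K) =
        θ ((x ^ expoZ Q M k δ : Kˣ) : K) := by
    intro x hx
    have h2 : c' = c + δ := by rw [hδd]; ring
    rw [conj_th, ← map_mul, ← Units.val_mul, h2, pow_expoZ_add hx hc hδ, inv_mul_cancel_left]
  have h1' : ∑ x : Kˣ, (if x ^ (Q ^ k) = x then
      conj (θ ((x ^ expoZ Q M k c : Kˣ) : K)) * θ ((x ^ expoZ Q M k c' : Kˣ) : K) else 0) =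
      ∑ x : Kˣ, (if x ^ (Q ^ k) = x then θ ((x ^ expoZ Q M k δ : Kˣ) : K) else 0) := by
    refine Finset.sum_congr rfl fun x _ => ?_
    split_ifs with h
    · exact h1 x h
    · rfl
  rw [h1']
  by_cases h0 : c' = c
  · have hδ0 : δ = 0 := by rw [hδd, h0, sub_self]
    have he : expoZ Q M k δ = 0 := by
      rw [hδ0, expoZ, ZMod.val_zero]
      simp
    rw [if_pos h0, he]
    simp only [zpow_zero, Units.val_one, map_one]
    rw [Finset.sum_ite, Finset.sum_const_zero, add_zero, Finset.sum_const, nsmul_eq_mul, mul_one,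
      ← card_level hM hk, Nat.card_eq_fintype_card, Fintype.card_subtype]
  · rw [if_neg h0]
    obtain ⟨x₀, hx₀⟩ := exists_gen hM hk
    have hx₀' : x₀ ^ (Q ^ k) = x₀ := by rw [pow_eq_self_iff, ← hx₀, pow_orderOf_eq_one]
    have hne : x₀ ^ expoZ Q M k δ ≠ 1 := by
      intro h
      rw [← orderOf_dvd_iff_zpow_eq_one, hx₀] at h
      have h3 : (Q ^ k - 1) ∣ expoZ Q M k δ := Int.natAbs_dvd.1 h
      obtain ⟨s, hs⟩ := h3
      have h4 := expoZ_mul hδ
      have hL : (Q ^ k - 1) ≠ 0 := by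
        intro h5
        have h6 := orderOf_pos x₀
        rw [hx₀, h5] at h6
        simp at h6
      have h5 : (δ.val : ℤ) = s * M := by
        refine mul_right_cancel₀ hL ?_
        rw [← h4, hs]
        ring
      have h6 : (M : ℤ) ∣ δ.val := ⟨s, by rw [h5]; ring⟩
      have h7 : M ∣ δ.val := by exact_mod_cast h6
      have h8 : δ.val = 0 := Nat.eq_zero_of_dvd_of_lt h7 (ZMod.val_lt δ)
      have h9 : δ = 0 := (ZMod.val_eq_zero δ).1 h8
      exact h0 (sub_eq_zero.1 h9)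
    set S := ∑ x : Kˣ, (if x ^ (Q ^ k) = x then θ ((x ^ expoZ Q M k δ : Kˣ) : K) else 0) with hS
    have h2 : S = θ ((x₀ ^ expoZ Q M k δ : Kˣ) : K) * S := by
      conv_lhs => rw [hS, ← Equiv.sum_comp (Equiv.mulLeft x₀)]
      rw [hS, Finset.mul_sum]
      refine Finset.sum_congr rfl fun x _ => ?_
      have h3 : (Equiv.mulLeft x₀ x) ^ (Q ^ k) = Equiv.mulLeft x₀ x ↔ x ^ (Q ^ k) = x := by
        rw [Equiv.coe_mulLeft, mul_zpow, hx₀', mul_right_inj]
      rw [mul_ite, mul_zero, if_congr h3 rfl rfl, Equiv.coe_mulLeft, mul_zpow, Units.val_mul, map_mul]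
    have h3 : θ ((x₀ ^ expoZ Q M k δ : Kˣ) : K) ≠ 1 := by
      intro h
      apply hne
      have h4 : θ ((x₀ ^ expoZ Q M k δ : Kˣ) : K) = θ 1 := by rw [h, map_one]
      exact Units.ext (hinj h4)
    have h4 : (θ ((x₀ ^ expoZ Q M k δ : Kˣ) : K) - 1) * S = 0 := by rw [sub_mul, one_mul, ← h2, sub_self]
    rcases mul_eq_zero.1 h4 with h | h
    · exact absurd (sub_eq_zero.1 h) h3
    · exact h

/-- periodic sums -/
theorem sum_periodic {A : Type*} [AddCommMonoid A] [Finite K] (hM : Nat.card Kˣ = M) (hQ : IsUnit (Q : ZMod M))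
    (f : Kˣ → A) {x : Kˣ} (hx : dOrb K Q (Quotient.mk (orbSetoid K Q) x) ∣ k) :
    ∑ i ∈ Finset.range k, f (x ^ (Q ^ i)) =
      (k / dOrb K Q (Quotient.mk (orbSetoid K Q) x)) •
        ∑ i ∈ Finset.range (dOrb K Q (Quotient.mk (orbSetoid K Q) x)), f (x ^ (Q ^ i)) := by
  obtain ⟨m, hm⟩ := hx
  have hd := dOrb_pos hM hQ (Quotient.mk (orbSetoid K Q) x)
  have hp := pow_dOrb hM hQ x
  have h2 : k / dOrb K Q (Quotient.mk (orbSetoid K Q) x) = m := by
    conv_lhs => rw [hm]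
    exact Nat.mul_div_cancel_left m hd
  rw [h2]
  conv_lhs => rw [hm]
  set d := dOrb K Q (Quotient.mk (orbSetoid K Q) x) with hdd
  have h0 : ∀ m, x ^ (Q ^ (d * m)) = x := by
    intro m
    induction m with
    | zero => simp
    | succ m ih => rw [Nat.mul_succ, pow_add, zpow_mul, ih, hp]
  clear h2 hm
  induction m with
  | zero => simp
  | succ m ih =>
    rw [Nat.mul_succ, Finset.sum_range_add, ih, succ_nsmul]
    congr 1
    refine Finset.sum_congr rfl fun i _ => ?_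
    rw [pow_add, zpow_mul, h0]

theorem sign_pow (h2 : 2 ≤ |Q|) (hk0 : 0 < k) : ((Q ^ k - 1).natAbs : ℤ) = Q.sign ^ k * (Q ^ k - 1) ∧ Q ^ k ≠ 1 := by
  have h1 : 1 < |Q ^ k| := by
    rw [abs_pow]
    exact one_lt_pow₀ (by omega) hk0.ne'
  have hne : Q ^ k ≠ 1 := by
    intro h
    rw [h, abs_one] at h1
    exact lt_irrefl _ h1
  refine ⟨?_, hne⟩
  have hQ0 : Q ≠ 0 := by
    rintro rfl
    simp at h2
  rw [Int.natCast_natAbs]
  have hs : Q.sign ^ k * Q ^ k = |Q ^ k| := by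
    rw [← mul_pow, abs_pow, Int.sign_mul_self_eq_abs]
  have hs2 : Q.sign ^ k = 1 ∨ Q.sign ^ k = -1 := by
    rcases lt_or_gt_of_ne hQ0 with h | h
    · rw [Int.sign_eq_neg_one_of_neg h]
      exact neg_one_pow_eq_or ℤ k
    · rw [Int.sign_eq_one_of_pos h, one_pow]
      exact Or.inl rfl
  rcases hs2 with h | h
  · rw [h, one_mul] at hs ⊢
    rw [abs_of_nonneg]
    rw [hs]
    omega
  · rw [h] at hs ⊢
    have h3 : Q ^ k < 0 := by omega
    rw [abs_of_nonpos (by omega)]
    ring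

open Classical in
/-- **The orthogonality sum.** -/
theorem orth_sum [Fintype (Orb K Q)] (ctx : CtxQ θ Q M N) (hk0 : 0 < k) (hkN : k ≤ N) {c c' : ZMod M}
    (hc : TorZ Q M k c) (hc' : TorZ Q M k c') :
    ∑ o : Orb K Q, (if dOrb K Q o ∣ k then
      conj (thO θ Q M k c o) * thO θ Q M k c' o *
        (((k / dOrb K Q o : ℕ) : ℂ) * H531.GU.kap ((Q : ℂ) ^ dOrb K Q o) (k / dOrb K Q o)) else 0) =
      (Q.sign : ℂ) ^ k * (((Finset.range k).filter fun j => (Q : ZMod M) ^ j * c' = c).card : ℂ) := by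
  have := ctx.finK
  have : Fintype Kˣ := Fintype.ofFinite _
  have hM := ctx.card
  have hQ := ctx.unit
  obtain ⟨hsgn, hne1⟩ := sign_pow (Q := Q) (k := k) ctx.two hk0
  have hkM : (Q ^ k - 1).natAbs ∣ M := by
    have := ctx.dvd k hk0 hkN
    rwa [← Int.natAbs_dvd, Int.natCast_dvd_natCast] at this
  -- the function on `Kˣ`
  set ch : ZMod M → Kˣ → ℂ := fun b x => θ ((x ^ expoZ Q M k b : Kˣ) : K) with hch
  set f : Kˣ → ℂ := fun x => if x ^ (Q ^ k) = x then
    conj (ch c x) * ∑ i ∈ Finset.range k, ch c' (x ^ (Q ^ i)) else 0 with hf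
  have hzc : ((Q : ℂ) ^ k - 1) ≠ 0 := by
    intro h
    apply hne1
    have h3 : (((Q ^ k - 1 : ℤ)) : ℂ) = 0 := by push_cast; exact h
    have h4 : Q ^ k - 1 = 0 := by exact_mod_cast h3
    omega
  have hmkpow : ∀ (x : Kˣ) (i : ℕ), Quotient.mk (orbSetoid K Q) (x ^ (Q ^ i)) = Quotient.mk (orbSetoid K Q) x :=
    fun x i => (mk_eq_iff hM hQ).2 ⟨i, rfl⟩
  -- one orbit
  have h1 : ∀ o : Orb K Q, (if dOrb K Q o ∣ k then
      conj (thO θ Q M k c o) * thO θ Q M k c' o *
        (((k / dOrb K Q o : ℕ) : ℂ) * H531.GU.kap ((Q : ℂ) ^ dOrb K Q o) (k / dOrb K Q o)) else 0) =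
      ((Q : ℂ) ^ k - 1)⁻¹ * ∑ x : Kˣ, if Quotient.mk (orbSetoid K Q) x = o then f x else 0 := by
    intro o
    induction o using Quotient.inductionOn with
    | _ x =>
      have hd := dOrb_pos hM hQ (Quotient.mk (orbSetoid K Q) x)
      have h2 : ∑ y : Kˣ, (if Quotient.mk (orbSetoid K Q) y = Quotient.mk (orbSetoid K Q) x then f y else 0) =
          ∑ i ∈ Finset.range (dOrb K Q (Quotient.mk (orbSetoid K Q) x)), f (x ^ (Q ^ i)) := by
        rw [← finsum_orb hM hQ f x, finsum_eq_sum_of_fintype, ← Finset.sum_filter]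
        exact (Finset.sum_subtype_of_mem f (p := fun y => Quotient.mk (orbSetoid K Q) y = Quotient.mk (orbSetoid K Q) x)
          (fun y hy => (Finset.mem_filter.1 hy).2)).symm.trans (by
            congr 1
            ext y
            simp [y.2])
      rw [h2]
      split_ifs with h
      · obtain ⟨m, hm⟩ := id h
        have hkd : k / dOrb K Q (Quotient.mk (orbSetoid K Q) x) = m := by
          conv_lhs => rw [hm]
          exact Nat.mul_div_cancel_left m hd
        have hm0 : m ≠ 0 := by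
          rintro rfl
          rw [mul_zero] at hm
          omega
        have hkap : H531.GU.kap ((Q : ℂ) ^ dOrb K Q (Quotient.mk (orbSetoid K Q) x)) m = ((Q : ℂ) ^ k - 1)⁻¹ := by
          rw [H531.GU.kap, if_neg hm0, ← pow_mul, ← hm]
        have h3 : ∀ i, f (x ^ (Q ^ i)) = conj (ch c (x ^ (Q ^ i))) *
            (m * thO θ Q M k c' (Quotient.mk (orbSetoid K Q) x)) := by
          intro i
          have h4 : (x ^ (Q ^ i)) ^ (Q ^ k) = x ^ (Q ^ i) := by
            rw [← dOrb_dvd_iff hM hQ, hmkpow]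
            exact h
          have h5 := sum_periodic hM hQ (ch c') (k := k) (x := x ^ (Q ^ i)) (by rw [hmkpow]; exact h)
          rw [hf]
          simp only
          rw [if_pos h4, h5, hmkpow, hkd, nsmul_eq_mul]
          congr 2
          have h6 := thO_mk (θ := θ) hM hQ k c' (x ^ (Q ^ i))
          rw [hmkpow] at h6
          exact h6.symm
        simp only [h3]
        rw [hkd, hkap, ← Finset.sum_mul, ← map_sum]
        have h7 : ∑ i ∈ Finset.range (dOrb K Q (Quotient.mk (orbSetoid K Q) x)), ch c (x ^ (Q ^ i)) =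
            thO θ Q M k c (Quotient.mk (orbSetoid K Q) x) := (thO_mk hM hQ k c x).symm
        rw [h7]
        ring
      · symm
        rw [Finset.sum_eq_zero, mul_zero]
        intro i _
        rw [hf]
        simp only
        rw [if_neg]
        rw [← dOrb_dvd_iff hM hQ, hmkpow]
        exact h
  rw [Finset.sum_congr rfl fun o _ => h1 o, ← Finset.mul_sum, Finset.sum_comm]
  have h2 : ∀ x : Kˣ, ∑ o : Orb K Q, (if Quotient.mk (orbSetoid K Q) x = o then f x else 0) = f x := by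
    intro x
    rw [Finset.sum_ite_eq]
    simp
  simp only [h2]
  -- the sum over the torus
  have h3 : ∑ x : Kˣ, f x = ∑ i ∈ Finset.range k, if (Q : ZMod M) ^ i * c' = c then ((Q ^ k - 1).natAbs : ℂ) else 0 := by
    have h4 : ∀ x : Kˣ, f x = ∑ i ∈ Finset.range k, (if x ^ (Q ^ k) = x then
        conj (θ ((x ^ expoZ Q M k c : Kˣ) : K)) * θ ((x ^ expoZ Q M k ((Q : ZMod M) ^ i * c') : Kˣ) : K) else 0) := by
      intro x
      rw [hf]
      simp only
      split_ifs with h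
      · rw [Finset.mul_sum]
        refine Finset.sum_congr rfl fun i _ => ?_
        rw [pow_expoZ_mul h hc']
      · rw [Finset.sum_const_zero]
    simp only [h4]
    rw [Finset.sum_comm]
    exact Finset.sum_congr rfl fun i _ => sum_level ctx.inj hM hkM hc (H614.GLn.RSt.torZ_mul k hc' i)
  rw [h3, ← Finset.sum_filter, Finset.sum_const, nsmul_eq_mul]
  have h5 : (((Q ^ k - 1).natAbs : ℕ) : ℂ) = (Q.sign : ℂ) ^ k * ((Q : ℂ) ^ k - 1) := by
    rw [← Int.cast_natCast (R := ℂ) (Q ^ k - 1).natAbs, hsgn]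
    push_cast
    rfl
  rw [h5]
  field_simp

end

end Cfsg.Agent.H421.GU
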