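import Cfsg.Agent.H615.GU.Loc
import Cfsg.Agent.H614.GLn.RSTau

/-!
# S4537: Frobenius orbits and the sums over orbits of the characters of the tori (helper421)

`K` finite, `|Kˣ| = M`, `Q` a unit modulo `M`.
* `mk_eq_iff` : the class of `x`; `pow_dOrb`, `dOrb_dvd_iff`; `exists_equiv`, `finsum_orb`, `finprod_orb`;
* `expoZ_mul`, `pow_expoZ_add`, `pow_expoZ_Q`, `expoZ_lin` : the exponents;
* `thO_mk`, `thO_pow`, `thO_canon`, `Pop_canon`;
* `nO`, `nO_mk`, `pow_expoZ_lin`, `thO_add_lin`.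
-/

set_option autoImplicit false
set_option linter.unusedSectionVars false

namespace Cfsg.Agent.H421.GU

open Cfsg.Agent.H615.GU Cfsg.Agent.H577.GLB.Std

section orb

variable {K : Type*} [Field K] {Q : ℤ} {M : ℕ}

/-- `x ↦ x ^ Q` -/
def fr (Q : ℤ) (x : Kˣ) : Kˣ := x ^ Q

theorem fr_iter (i : ℕ) (x : Kˣ) : (fr Q)^[i] x = x ^ (Q ^ i) := by
  induction i with
  | zero => simp
  | succ i ih => rw [Function.iterate_succ_apply', ih, fr, ← zpow_mul, pow_succ]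

theorem fr_inj [Finite K] (hM : Nat.card Kˣ = M) (hQ : IsUnit (Q : ZMod M)) : Function.Injective (fr (K := K) Q) := by
  intro x y h
  have h1 : (x * y⁻¹) ^ Q = 1 := by
    rw [mul_zpow, inv_zpow]
    have h2 : x ^ Q = y ^ Q := h
    rw [h2, mul_inv_cancel]
  have h2 : (x * y⁻¹) ^ (M : ℤ) = 1 := by
    rw [zpow_natCast, ← hM]
    exact pow_card_eq_one'
  have h3 : IsCoprime Q (M : ℤ) := (ZMod.coe_int_isUnit_iff_isCoprime Q M).1 hQ |>.symm
  obtain ⟨u, v, huv⟩ := h3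
  have h4 : x * y⁻¹ = 1 := by
    rw [← zpow_one (x * y⁻¹), ← huv, zpow_add, mul_comm u, mul_comm v, zpow_mul, zpow_mul, h1, h2, one_zpow, one_zpow,
      one_mul]
  exact mul_inv_eq_one.1 h4

theorem minPer_pos [Finite K] (hM : Nat.card Kˣ = M) (hQ : IsUnit (Q : ZMod M)) (x : Kˣ) :
    0 < Function.minimalPeriod (fr Q) x :=
  Function.minimalPeriod_pos_iff_mem_periodicPts.2 (Function.Injective.mem_periodicPts (fr_inj hM hQ) x)

/-- the class of `x` -/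
theorem mk_eq_iff [Finite K] (hM : Nat.card Kˣ = M) (hQ : IsUnit (Q : ZMod M)) {x y : Kˣ} :
    Quotient.mk (orbSetoid K Q) y = Quotient.mk (orbSetoid K Q) x ↔ ∃ i : ℕ, y = x ^ (Q ^ i) := by
  rw [Quotient.eq]
  constructor
  · rintro ⟨i, j, h⟩
    set n := Function.minimalPeriod (fr Q) y with hn
    have hn0 : 0 < n := minPer_pos hM hQ y
    have h1 : (fr Q)^[n * i] y = y := by
      have := Function.isPeriodicPt_iff_minimalPeriod_dvd.2 (dvd_mul_right n i)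
      exact this
    refine ⟨(n * i - i) + j, ?_⟩
    have h2 : i ≤ n * i := Nat.le_mul_of_pos_left _ hn0
    rw [← fr_iter, Function.iterate_add_apply, fr_iter j, ← h, ← fr_iter, ← Function.iterate_add_apply,
      Nat.sub_add_cancel h2, h1]
  · rintro ⟨i, rfl⟩
    exact ⟨0, i, by simp⟩

theorem exists_equiv' [Finite K] (hM : Nat.card Kˣ = M) (hQ : IsUnit (Q : ZMod M)) (x : Kˣ) :
    ∃ e : Fin (Function.minimalPeriod (fr Q) x) ≃
      {y : Kˣ // Quotient.mk (orbSetoid K Q) y = Quotient.mk (orbSetoid K Q) x},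
      ∀ i, (e i : Kˣ) = x ^ (Q ^ (i : ℕ)) := by
  let f : Fin (Function.minimalPeriod (fr Q) x) →
      {y : Kˣ // Quotient.mk (orbSetoid K Q) y = Quotient.mk (orbSetoid K Q) x} :=
    fun i => ⟨x ^ (Q ^ (i : ℕ)), (mk_eq_iff hM hQ).2 ⟨i, rfl⟩⟩
  have hf : Function.Bijective f := by
    constructor
    · intro i j h
      have h1 : x ^ (Q ^ (i : ℕ)) = x ^ (Q ^ (j : ℕ)) := congrArg Subtype.val h
      rw [← fr_iter, ← fr_iter] at h1
      exact Fin.ext (Function.iterate_injOn_Iio_minimalPeriod (f := fr Q) (x := x) i.2 j.2 h1)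
    · rintro ⟨y, hy⟩
      obtain ⟨i, hi⟩ := (mk_eq_iff hM hQ).1 hy
      refine ⟨⟨i % Function.minimalPeriod (fr Q) x, Nat.mod_lt _ (minPer_pos hM hQ x)⟩, Subtype.ext ?_⟩
      show x ^ (Q ^ (i % Function.minimalPeriod (fr Q) x)) = y
      rw [hi, ← fr_iter, ← fr_iter, Function.iterate_mod_minimalPeriod_eq]
  exact ⟨Equiv.ofBijective f hf, fun i => rfl⟩

theorem dOrb_mk [Finite K] (hM : Nat.card Kˣ = M) (hQ : IsUnit (Q : ZMod M)) (x : Kˣ) :
    dOrb K Q (Quotient.mk (orbSetoid K Q) x) = Function.minimalPeriod (fr Q) x := by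
  obtain ⟨e, -⟩ := exists_equiv' hM hQ x
  rw [dOrb, ← Nat.card_congr e, Nat.card_eq_fintype_card, Fintype.card_fin]

theorem dOrb_pos [Finite K] (hM : Nat.card Kˣ = M) (hQ : IsUnit (Q : ZMod M)) (o : Orb K Q) : 0 < dOrb K Q o := by
  induction o using Quotient.inductionOn with
  | _ x => rw [dOrb_mk hM hQ]; exact minPer_pos hM hQ x

theorem exists_equiv [Finite K] (hM : Nat.card Kˣ = M) (hQ : IsUnit (Q : ZMod M)) (x : Kˣ) :
    ∃ e : Fin (dOrb K Q (Quotient.mk (orbSetoid K Q) x)) ≃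
      {y : Kˣ // Quotient.mk (orbSetoid K Q) y = Quotient.mk (orbSetoid K Q) x},
      ∀ i, (e i : Kˣ) = x ^ (Q ^ (i : ℕ)) := by
  rw [dOrb_mk hM hQ]
  exact exists_equiv' hM hQ x

theorem dOrb_dvd_iff [Finite K] (hM : Nat.card Kˣ = M) (hQ : IsUnit (Q : ZMod M)) (x : Kˣ) (k : ℕ) :
    dOrb K Q (Quotient.mk (orbSetoid K Q) x) ∣ k ↔ x ^ (Q ^ k) = x := by
  rw [dOrb_mk hM hQ, ← Function.isPeriodicPt_iff_minimalPeriod_dvd, Function.IsPeriodicPt, Function.IsFixedPt,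
    fr_iter]

theorem pow_dOrb [Finite K] (hM : Nat.card Kˣ = M) (hQ : IsUnit (Q : ZMod M)) (x : Kˣ) :
    x ^ (Q ^ dOrb K Q (Quotient.mk (orbSetoid K Q) x)) = x := (dOrb_dvd_iff hM hQ x _).1 dvd_rfl

theorem finsum_orb {A : Type*} [AddCommMonoid A] [Finite K] (hM : Nat.card Kˣ = M) (hQ : IsUnit (Q : ZMod M))
    (f : Kˣ → A) (x : Kˣ) :
    ∑ᶠ y : {y : Kˣ // Quotient.mk (orbSetoid K Q) y = Quotient.mk (orbSetoid K Q) x}, f y =
      ∑ i ∈ Finset.range (dOrb K Q (Quotient.mk (orbSetoid K Q) x)), f (x ^ (Q ^ i)) := by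
  obtain ⟨e, he⟩ := exists_equiv hM hQ x
  rw [← finsum_comp_equiv e, finsum_eq_sum_of_fintype, Finset.sum_range]
  exact Finset.sum_congr rfl fun i _ => by rw [he]

theorem finprod_orb {A : Type*} [CommMonoid A] [Finite K] (hM : Nat.card Kˣ = M) (hQ : IsUnit (Q : ZMod M))
    (f : Kˣ → A) (x : Kˣ) :
    ∏ᶠ y : {y : Kˣ // Quotient.mk (orbSetoid K Q) y = Quotient.mk (orbSetoid K Q) x}, f y =
      ∏ i ∈ Finset.range (dOrb K Q (Quotient.mk (orbSetoid K Q) x)), f (x ^ (Q ^ i)) := by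
  obtain ⟨e, he⟩ := exists_equiv hM hQ x
  rw [← finprod_comp_equiv e, finprod_eq_prod_of_fintype, Finset.prod_range]
  exact Finset.prod_congr rfl fun i _ => by rw [he]

/-- shifting a sum over an orbit -/
theorem sum_orb_shift {A : Type*} [AddCommMonoid A] [Finite K] (hM : Nat.card Kˣ = M) (hQ : IsUnit (Q : ZMod M))
    (f : Kˣ → A) (x : Kˣ) :
    ∑ i ∈ Finset.range (dOrb K Q (Quotient.mk (orbSetoid K Q) x)), f (x ^ (Q ^ (i + 1))) =
      ∑ i ∈ Finset.range (dOrb K Q (Quotient.mk (orbSetoid K Q) x)), f (x ^ (Q ^ i)) := by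
  have h0 := dOrb_pos hM hQ (Quotient.mk (orbSetoid K Q) x)
  obtain ⟨d, hd⟩ : ∃ d, dOrb K Q (Quotient.mk (orbSetoid K Q) x) = d + 1 := ⟨_, (Nat.succ_pred_eq_of_pos h0).symm⟩
  have h1 := pow_dOrb hM hQ x
  rw [hd] at h1 ⊢
  rw [Finset.sum_range_succ, Finset.sum_range_succ' (fun i => f (x ^ (Q ^ i))), h1]
  simp

/-! ### exponents -/

section expo

variable {k : ℕ} [NeZero M]

/-- the exponent is an exact quotient -/
theorem expoZ_mul {c : ZMod M} (h : TorZ Q M k c) : expoZ Q M k c * M = c.val * (Q ^ k - 1) := by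
  unfold expoZ
  refine Int.ediv_mul_cancel ?_
  rw [TorZ] at h
  rw [← ZMod.intCast_zmod_eq_zero_iff_dvd]
  push_cast
  rw [ZMod.natCast_zmod_val, mul_comm]
  exact h

theorem pow_of_level {x : Kˣ} (hx : x ^ (Q ^ k) = x) {a b : ℤ} (h : (Q ^ k - 1) ∣ a - b) : x ^ a = x ^ b := by
  obtain ⟨t, ht⟩ := h
  have h1 : x ^ (Q ^ k - 1) = 1 := by rw [zpow_sub, hx, zpow_one, mul_inv_cancel]
  have h2 : a = b + (Q ^ k - 1) * t := by linarith
  rw [h2, zpow_add, zpow_mul, h1, one_zpow, mul_one]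

theorem pow_expoZ_add {x : Kˣ} (hx : x ^ (Q ^ k) = x) {c c' : ZMod M} (h : TorZ Q M k c) (h' : TorZ Q M k c') :
    x ^ expoZ Q M k (c + c') = x ^ expoZ Q M k c * x ^ expoZ Q M k c' := by
  have hM0 : (M : ℤ) ≠ 0 := by exact_mod_cast NeZero.ne M
  rw [← zpow_add]
  refine pow_of_level hx ?_
  have h1 := expoZ_mul h
  have h2 := expoZ_mul h'
  have h3 := expoZ_mul (H614.GLn.RSt.torZ_add k h h')
  have h4 : (M : ℤ) ∣ ((c + c').val : ℤ) - c.val - c'.val := by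
    rw [← ZMod.intCast_zmod_eq_zero_iff_dvd]
    push_cast
    rw [ZMod.natCast_zmod_val, ZMod.natCast_zmod_val, ZMod.natCast_zmod_val]
    ring
  obtain ⟨t, ht⟩ := h4
  refine ⟨t, mul_right_cancel₀ hM0 ?_⟩
  linear_combination h3 - h1 - h2 + (Q ^ k - 1) * ht

theorem pow_expoZ_mul {x : Kˣ} (hx : x ^ (Q ^ k) = x) {c : ZMod M} (h : TorZ Q M k c) (j : ℕ) :
    x ^ expoZ Q M k ((Q : ZMod M) ^ j * c) = (x ^ (Q ^ j)) ^ expoZ Q M k c := by
  have hM0 : (M : ℤ) ≠ 0 := by exact_mod_cast NeZero.ne M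
  rw [← zpow_mul]
  refine pow_of_level hx ?_
  have h1 := expoZ_mul h
  have h2 := expoZ_mul (H614.GLn.RSt.torZ_mul k h j)
  have h4 : (M : ℤ) ∣ (((Q : ZMod M) ^ j * c).val : ℤ) - Q ^ j * c.val := by
    rw [← ZMod.intCast_zmod_eq_zero_iff_dvd]
    push_cast
    rw [ZMod.natCast_zmod_val, ZMod.natCast_zmod_val]
    ring
  obtain ⟨t, ht⟩ := h4
  refine ⟨t, mul_right_cancel₀ hM0 ?_⟩
  linear_combination h2 - Q ^ j * h1 + (Q ^ k - 1) * ht

theorem torZ_of_one {a : ZMod M} (h : TorZ Q M 1 a) (k : ℕ) : TorZ Q M k a := by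
  rw [TorZ] at h ⊢
  rw [pow_one] at h
  obtain ⟨y, hy⟩ := sub_one_dvd_pow_sub_one (Q : ZMod M) k
  rw [hy, mul_right_comm, h, zero_mul]

/-- the exponent of a linear character -/
theorem expoZ_lin {a : ZMod M} (h : TorZ Q M 1 a) (k : ℕ) :
    expoZ Q M k a = (∑ i ∈ Finset.range k, Q ^ i) * expoZ Q M 1 a := by
  have hM0 : (M : ℤ) ≠ 0 := by exact_mod_cast NeZero.ne M
  have h1 := expoZ_mul h
  have h2 := expoZ_mul (torZ_of_one h k)
  refine mul_right_cancel₀ hM0 ?_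
  rw [h2, mul_assoc, h1, pow_one, ← geom_sum_mul Q k]
  ring

end expo

theorem pow_geom {x : Kˣ} {d : ℕ} (hx : x ^ (Q ^ d) = x) (m : ℕ) :
    x ^ (∑ i ∈ Finset.range (d * m), Q ^ i) = (x ^ (∑ i ∈ Finset.range d, Q ^ i)) ^ m := by
  have h0 : ∀ m, x ^ (Q ^ (d * m)) = x := by
    intro m
    induction m with
    | zero => simp
    | succ m ih => rw [Nat.mul_succ, pow_add, zpow_mul, ih, hx]
  induction m with
  | zero => simp
  | succ m ih =>
    rw [Nat.mul_succ, Finset.sum_range_add, zpow_add, ih, pow_succ]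
    congr 1
    have h1 : ∑ i ∈ Finset.range d, Q ^ (d * m + i) = Q ^ (d * m) * ∑ i ∈ Finset.range d, Q ^ i := by
      rw [Finset.mul_sum]
      exact Finset.sum_congr rfl fun i _ => pow_add _ _ _
    rw [h1, zpow_mul, h0]

/-! ### sums over orbits -/

section th

variable {θ : K →*₀ ℂ} {k : ℕ}

theorem th_zpow (x : Kˣ) (e : ℤ) : θ (x : K) ^ e = θ ((x ^ e : Kˣ) : K) := by
  have h := congrArg Units.val (map_zpow (Units.map (θ : K →* ℂ)) x e)
  rw [Units.val_zpow_eq_zpow_val] at h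
  exact h.symm

/-- the sum over an orbit -/
theorem thO_mk [Finite K] (hM : Nat.card Kˣ = M) (hQ : IsUnit (Q : ZMod M)) (k : ℕ) (c : ZMod M) (x : Kˣ) :
    thO θ Q M k c (Quotient.mk (orbSetoid K Q) x) =
      ∑ i ∈ Finset.range (dOrb K Q (Quotient.mk (orbSetoid K Q) x)), θ (((x ^ (Q ^ i)) ^ expoZ Q M k c : Kˣ) : K) := by
  rw [thO]
  simp only [th_zpow]
  exact finsum_orb hM hQ (fun y : Kˣ => θ ((y ^ expoZ Q M k c : Kˣ) : K)) x

variable [NeZero M]

theorem thO_pow [Finite K] (hM : Nat.card Kˣ = M) (hQ : IsUnit (Q : ZMod M)) {c : ZMod M} (hc : TorZ Q M k c)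
    (j : ℕ) {o : Orb K Q} (ho : dOrb K Q o ∣ k) : thO θ Q M k ((Q : ZMod M) ^ j * c) o = thO θ Q M k c o := by
  induction o using Quotient.inductionOn with
  | _ x =>
    have hx : ∀ i, (x ^ (Q ^ i)) ^ (Q ^ k) = x ^ (Q ^ i) := by
      intro i
      rw [← zpow_mul, mul_comm, zpow_mul, (dOrb_dvd_iff hM hQ x k).1 ho]
    rw [thO_mk hM hQ, thO_mk hM hQ]
    induction j with
    | zero => simp
    | succ j ih =>
      rw [← ih, pow_succ', mul_assoc]
      have h1 : ∀ i, (x ^ (Q ^ i)) ^ expoZ Q M k ((Q : ZMod M) * ((Q : ZMod M) ^ j * c)) =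
          (x ^ (Q ^ (i + 1))) ^ expoZ Q M k ((Q : ZMod M) ^ j * c) := by
        intro i
        have h2 := pow_expoZ_mul (hx i) (H614.GLn.RSt.torZ_mul k hc j) 1
        rw [pow_one, pow_one] at h2
        rw [h2, ← zpow_mul x (Q ^ i) Q, ← pow_succ]
      simp only [h1]
      exact sum_orb_shift hM hQ (fun y => θ ((y ^ expoZ Q M k ((Q : ZMod M) ^ j * c) : Kˣ) : K)) x

theorem thO_canon [Finite K] (hM : Nat.card Kˣ = M) (hQ : IsUnit (Q : ZMod M)) {c : ZMod M} (hc : TorZ Q M k c)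
    {o : Orb K Q} (ho : dOrb K Q o ∣ k) : thO θ Q M k (canon Q M c) o = thO θ Q M k c o := by
  obtain ⟨j, hj⟩ := H614.GLn.RSt.sameZ_canon (Q := Q) c
  rw [hj, thO_pow hM hQ hc j ho]

theorem Pop_canon [Finite K] (hM : Nat.card Kˣ = M) (hQ : IsUnit (Q : ZMod M)) {c : ZMod M} (hc : TorZ Q M k c) :
    Pop θ Q M k (canon Q M c) = Pop θ Q M k c := by
  classical
  unfold Pop
  refine finsum_congr fun o => ?_
  split_ifs with h
  · rw [thO_canon hM hQ hc h.2]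
  · rfl

end th

/-! ### linear characters -/

section lin

variable {θ : K →*₀ ℂ} {k : ℕ} [NeZero M]

/-- the product of an orbit -/
noncomputable def nO (Q : ℤ) (o : Orb K Q) : Kˣ :=
  ∏ᶠ x : {x : Kˣ // (Quotient.mk (orbSetoid K Q) x) = o}, (x : Kˣ)

theorem nO_mk [Finite K] (hM : Nat.card Kˣ = M) (hQ : IsUnit (Q : ZMod M)) (x : Kˣ) :
    nO Q (Quotient.mk (orbSetoid K Q) x) =
      x ^ (∑ i ∈ Finset.range (dOrb K Q (Quotient.mk (orbSetoid K Q) x)), Q ^ i) := by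
  rw [nO, finprod_orb hM hQ (fun y => y) x]
  induction dOrb K Q (Quotient.mk (orbSetoid K Q) x) with
  | zero => simp
  | succ d ih => rw [Finset.prod_range_succ, Finset.sum_range_succ, zpow_add, ih]

theorem pow_expoZ_lin [Finite K] (hM : Nat.card Kˣ = M) (hQ : IsUnit (Q : ZMod M)) {a : ZMod M}
    (ha : TorZ Q M 1 a) {x : Kˣ} (hx : dOrb K Q (Quotient.mk (orbSetoid K Q) x) ∣ k) :
    x ^ expoZ Q M k a = (nO Q (Quotient.mk (orbSetoid K Q) x) ^ expoZ Q M 1 a) ^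
      (k / dOrb K Q (Quotient.mk (orbSetoid K Q) x)) := by
  obtain ⟨m, hm⟩ := hx
  have hd := dOrb_pos hM hQ (Quotient.mk (orbSetoid K Q) x)
  rw [expoZ_lin ha, zpow_mul]
  have h1 := pow_geom (pow_dOrb hM hQ x) m
  rw [← hm, ← nO_mk hM hQ] at h1
  have h2 : k / dOrb K Q (Quotient.mk (orbSetoid K Q) x) = m := by
    conv_lhs => rw [hm]
    exact Nat.mul_div_cancel_left m hd
  rw [h1, h2, ← zpow_natCast, ← zpow_mul, ← zpow_natCast, ← zpow_mul, mul_comm]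

theorem nO_pow [Finite K] (hM : Nat.card Kˣ = M) (hQ : IsUnit (Q : ZMod M)) (o : Orb K Q) (i : ℕ) :
    nO Q o ^ (Q ^ i) = nO Q o := by
  induction o using Quotient.inductionOn with
  | _ x =>
    have h1 : nO Q (Quotient.mk (orbSetoid K Q) x) ^ Q = nO Q (Quotient.mk (orbSetoid K Q) x) := by
      rw [nO_mk hM hQ, ← zpow_mul]
      refine pow_of_level (pow_dOrb hM hQ x) ⟨1, ?_⟩
      rw [← geom_sum_mul]
      ring
    induction i with
    | zero => simp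
    | succ i ih => rw [pow_succ, zpow_mul, ih, h1]

theorem thO_add_lin [Finite K] (hM : Nat.card Kˣ = M) (hQ : IsUnit (Q : ZMod M)) {a c : ZMod M}
    (ha : TorZ Q M 1 a) (hc : TorZ Q M k c) {o : Orb K Q} (ho : dOrb K Q o ∣ k) :
    thO θ Q M k (c + a) o =
      θ ((nO Q o ^ expoZ Q M 1 a : Kˣ) : K) ^ (k / dOrb K Q o) * thO θ Q M k c o := by
  induction o using Quotient.inductionOn with
  | _ x =>
    rw [thO_mk hM hQ, thO_mk hM hQ, Finset.mul_sum]
    refine Finset.sum_congr rfl fun i _ => ?_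
    have hmk : Quotient.mk (orbSetoid K Q) (x ^ (Q ^ i)) = Quotient.mk (orbSetoid K Q) x :=
      (mk_eq_iff hM hQ).2 ⟨i, rfl⟩
    have hi : dOrb K Q (Quotient.mk (orbSetoid K Q) (x ^ (Q ^ i))) ∣ k := by rw [hmk]; exact ho
    rw [pow_expoZ_add ((dOrb_dvd_iff hM hQ _ k).1 hi) hc (torZ_of_one ha k), pow_expoZ_lin hM hQ ha hi, hmk,
      Units.val_mul, map_mul, Units.val_pow_eq_pow_val, map_pow, mul_comm]

end lin

end orb

end Cfsg.Agent.H421.GU
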