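import Cfsg.Agent.H421.GU.Orb

/-!
# S4537, R5: twists by linear characters in the realization at types (helper421)

* `Dlin θ Q M a` : multiplication by `linT θ Q M a`;
* `Pop_Dlin` : `Pop k (c + a) (Dlin a f) = Dlin a (Pop k c f)`;
* `evR_twist` : `evR (twist Q M a x) lam = linT θ Q M a lam * evR x lam` for `x ∈ GenR Q M`, `TorZ Q M 1 a`.
-/

set_option autoImplicit false
set_option linter.unusedSectionVars false

namespace Cfsg.Agent.H421.GU

open MvPolynomial Cfsg.Agent.H615.GU Cfsg.Agent.H577.GLB.Std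

/-! ### local homogeneity -/

section loc

/-- multiplication by a power of the size -/
noncomputable def Sz (z : ℂ) : Module.End ℂ (Col → ℂ) where
  toFun f l := z ^ l.size * f l
  map_add' _ _ := funext fun _ => mul_add _ _ _
  map_smul' _ _ := funext fun _ => mul_left_comm _ _ _

theorem Sz_apply (z : ℂ) (f : Col → ℂ) (l : Col) : Sz z f l = z ^ l.size * f l := rfl

theorem Ul_Sz (t z : ℂ) (j : ℕ) : z ^ j • (Ul t j * Sz z) = Sz z * Ul t j := by
  classical
  refine LinearMap.ext fun f => funext fun l => ?_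
  show z ^ j * (∑ k ∈ (Col.below l).filter fun k => k.size + j = l.size, ev t (Np l k) * (z ^ k.size * f k)) =
    z ^ l.size * ∑ k ∈ (Col.below l).filter fun k => k.size + j = l.size, ev t (Np l k) * f k
  rw [Finset.mul_sum, Finset.mul_sum]
  refine Finset.sum_congr rfl fun k hk => ?_
  rw [← (Finset.mem_filter.1 hk).2, pow_add]
  ring

theorem nwt_Sz {h : ℕ → Module.End ℂ (Col → ℂ)} {z : ℂ} (hh : ∀ j, z ^ j • (h j * Sz z) = Sz z * h j) (k : ℕ) :
    z ^ k • (H531.GU.nwt h k * Sz z) = Sz z * H531.GU.nwt h k := by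
  induction k using Nat.strong_induction_on with
  | _ k ih =>
    cases k with
    | zero => rw [H531.GU.nwt_zero, zero_mul, mul_zero, smul_zero]
    | succ k =>
      rw [H531.GU.nwt_succ, sub_mul, mul_sub, smul_sub, smul_mul_assoc, mul_smul_comm, smul_comm, hh, Finset.sum_mul,
        Finset.mul_sum, Finset.smul_sum]
      congr 1
      refine Finset.sum_congr rfl fun i hi => ?_
      rw [Finset.mem_range] at hi
      have h1 := ih i hi
      have h2 := hh (k + 1 - i)
      rw [← mul_assoc, ← h1, smul_mul_assoc, mul_assoc, mul_assoc, ← h2, mul_smul_comm, smul_smul, ← pow_add]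
      congr 2
      omega

theorem Pl_Sz (t z : ℂ) (k : ℕ) : z ^ k • (Pl t k * Sz z) = Sz z * Pl t k := nwt_Sz (Ul_Sz t z) k

theorem Pl_Sz_apply (t z : ℂ) (k : ℕ) (f : Col → ℂ) (l : Col) :
    z ^ k * Pl t k (fun c => z ^ c.size * f c) l = z ^ l.size * Pl t k f l :=
  congrFun (LinearMap.congr_fun (Pl_Sz t z k) f) l

end loc

section glob

variable {K : Type*} [Field K] {θ : K →*₀ ℂ} {Q : ℤ} {M : ℕ}

/-- multiplication by a linear character -/
noncomputable def Dlin (θ : K →*₀ ℂ) (Q : ℤ) (M : ℕ) (a : ZMod M) : Module.End ℂ (Ty (Orb K Q) → ℂ) where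
  toFun f lam := linT θ Q M a lam * f lam
  map_add' _ _ := funext fun _ => mul_add _ _ _
  map_smul' _ _ := funext fun _ => mul_left_comm _ _ _

theorem Dlin_apply (a : ZMod M) (f : Ty (Orb K Q) → ℂ) (lam : Ty (Orb K Q)) :
    Dlin θ Q M a f lam = linT θ Q M a lam * f lam := rfl

open Classical in
theorem detT_update [Finite K] (lam : Ty (Orb K Q)) (o : Orb K Q) (c : Col) :
    detT Q (lam.update o c) * nO Q o ^ (lam o).size = detT Q lam * nO Q o ^ c.size := by
  have : Fintype (Orb K Q) := Fintype.ofFinite _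
  have h : ∀ mu : Ty (Orb K Q), detT Q mu =
      nO Q o ^ (mu o).size * ∏ o' ∈ Finset.univ \ {o}, nO Q o' ^ (mu o').size := by
    intro mu
    show ∏ᶠ o', nO Q o' ^ (mu o').size = _
    rw [finprod_eq_prod_of_fintype, Finset.prod_eq_mul_prod_sdiff_singleton_of_mem (Finset.mem_univ o)]
  rw [h, h]
  have h1 : (lam.update o c) o = c := by simp
  have h2 : ∏ o' ∈ Finset.univ \ {o}, nO Q o' ^ ((lam.update o c) o').size =
      ∏ o' ∈ Finset.univ \ {o}, nO Q o' ^ (lam o').size := by
    refine Finset.prod_congr rfl fun o' ho' => ?_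
    have h3 : o' ≠ o := by
      rw [Finset.mem_sdiff, Finset.mem_singleton] at ho'
      exact ho'.2
    rw [Finsupp.coe_update, Function.update_of_ne h3]
  rw [h1, h2, mul_right_comm, mul_right_comm (nO Q o ^ (lam o).size), mul_comm (nO Q o ^ c.size)]

open Classical in
theorem linT_update [Finite K] (a : ZMod M) (lam : Ty (Orb K Q)) (o : Orb K Q) (c : Col) :
    linT θ Q M a (lam.update o c) * θ ((nO Q o ^ expoZ Q M 1 a : Kˣ) : K) ^ (lam o).size =
      linT θ Q M a lam * θ ((nO Q o ^ expoZ Q M 1 a : Kˣ) : K) ^ c.size := by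
  have h := congrArg (fun y : Kˣ => θ ((y ^ expoZ Q M 1 a : Kˣ) : K)) (detT_update lam o c)
  simp only [mul_zpow, Units.val_mul, map_mul] at h
  have h1 : ∀ n : ℕ, θ (((nO Q o ^ n) ^ expoZ Q M 1 a : Kˣ) : K) =
      θ ((nO Q o ^ expoZ Q M 1 a : Kˣ) : K) ^ n := by
    intro n
    rw [← map_pow, ← Units.val_pow_eq_pow_val, ← zpow_natCast, ← zpow_natCast, ← zpow_mul, ← zpow_mul, mul_comm]
  rw [h1, h1] at h
  rw [linT, linT, th_zpow, th_zpow]
  exact h

theorem th_ne_zero (x : Kˣ) : θ (x : K) ≠ 0 := by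
  rw [Ne, map_eq_zero]
  exact x.ne_zero

open Classical in
theorem lft_Dlin [Finite K] (a : ZMod M) (o : Orb K Q) (t : ℂ) (j : ℕ) (f : Ty (Orb K Q) → ℂ)
    (lam : Ty (Orb K Q)) :
    θ ((nO Q o ^ expoZ Q M 1 a : Kˣ) : K) ^ j * lft o (Pl t j) (Dlin θ Q M a f) lam =
      linT θ Q M a lam * lft o (Pl t j) f lam := by
  set z : ℂ := θ ((nO Q o ^ expoZ Q M 1 a : Kˣ) : K) with hz
  have hz0 : z ≠ 0 := th_ne_zero _
  have hzs : z ^ (lam o).size ≠ 0 := pow_ne_zero _ hz0
  rw [H531.GU.lft_apply, H531.GU.lft_apply]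
  have h1 : (fun c => Dlin θ Q M a f (lam.update o c)) =
      (linT θ Q M a lam / z ^ (lam o).size) • fun c : Col => z ^ c.size * f (lam.update o c) := by
    funext c
    have h2 := linT_update (θ := θ) a lam o c
    rw [← hz] at h2
    rw [Dlin_apply, Pi.smul_apply, smul_eq_mul, eq_div_of_mul_eq hzs h2]
    ring
  have h3 := Pl_Sz_apply t z j (fun c => f (lam.update o c)) (lam o)
  rw [h1, map_smul, Pi.smul_apply, smul_eq_mul, mul_left_comm, h3]
  field_simp

variable [NeZero M]

/-- the twisted cuspidal operators -/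
theorem Pop_Dlin [Finite K] (hM : Nat.card Kˣ = M) (hQ : IsUnit (Q : ZMod M)) {a c : ZMod M} {k : ℕ}
    (ha : TorZ Q M 1 a) (hc : TorZ Q M k c) (f : Ty (Orb K Q) → ℂ) :
    Pop θ Q M k (c + a) (Dlin θ Q M a f) = Dlin θ Q M a (Pop θ Q M k c f) := by
  classical
  have : Fintype (Orb K Q) := Fintype.ofFinite _
  unfold Pop
  rw [finsum_eq_sum_of_fintype, finsum_eq_sum_of_fintype, LinearMap.sum_apply, LinearMap.sum_apply, map_sum]
  refine Finset.sum_congr rfl fun o _ => ?_
  split_ifs with h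
  · funext lam
    rw [LinearMap.smul_apply, LinearMap.smul_apply, Dlin_apply, Pi.smul_apply, Pi.smul_apply, smul_eq_mul,
      smul_eq_mul, thO_add_lin hM hQ ha hc h.2, mul_left_comm (linT θ Q M a lam), ← lft_Dlin]
    ring
  · rw [LinearMap.zero_apply, LinearMap.zero_apply, map_zero]

theorem linT_zero (a : ZMod M) : linT θ Q M a 0 = 1 := by
  rw [linT]
  have h1 : detT Q (0 : Ty (Orb K Q)) = 1 := by
    unfold detT
    simp
  rw [h1, Units.val_one, map_one, one_zpow]

theorem Dlin_vac (a : ZMod M) : Dlin θ Q M a vac = vac := by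
  funext lam
  rw [Dlin_apply, vac]
  split_ifs with h
  · rw [h, linT_zero, one_mul]
  · rw [mul_zero]

/-- **R5**: the twist by a linear character. -/
theorem evR_twist [Finite K] (hM : Nat.card Kˣ = M) (hQ : IsUnit (Q : ZMod M))
    (hmul : ∀ (v : Var M) (x : RS M), evR θ Q M (X v * x) = Pop θ Q M v.1 v.2 (evR θ Q M x)) {a : ZMod M}
    (ha : TorZ Q M 1 a) {x : RS M} (hx : x ∈ GenR Q M) (lam : Ty (Orb K Q)) :
    evR θ Q M (twist Q M a x) lam = linT θ Q M a lam * evR θ Q M x lam := by
  suffices h : evR θ Q M (twist Q M a x) = Dlin θ Q M a (evR θ Q M x) by rw [h, Dlin_apply]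
  rw [GenR, ← Subalgebra.mem_toSubmodule, Algebra.adjoin_eq_span] at hx
  induction hx using Submodule.span_induction with
  | zero => simp
  | add x y _ _ hx hy => rw [map_add, map_add, map_add, map_add, hx, hy]
  | smul c x _ hx => rw [map_smul, map_smul, map_smul, map_smul, hx]
  | mem x hx =>
    induction hx using Submonoid.closure_induction_left with
    | one => rw [map_one, evR_one, Dlin_vac]
    | mul_left y hy x _ ih =>
      obtain ⟨⟨k, c⟩, rfl⟩ := hy
      rw [map_mul]
      show evR θ Q M (twist Q M a (rv Q M k c) * twist Q M a x) = Dlin θ Q M a (evR θ Q M (rv Q M k c * x))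
      by_cases h : 0 < k ∧ TorZ Q M k c
      · have hcan : TorZ Q M k (canon Q M c) := by
          obtain ⟨j, hj⟩ := H614.GLn.RSt.sameZ_canon (Q := Q) c
          rw [hj]
          exact H614.GLn.RSt.torZ_mul k h.2 j
        have hca := H614.GLn.RSt.torZ_add k hcan (torZ_of_one ha k)
        have h1 : rv Q M k c = X (k, canon Q M c) := by rw [rv, if_pos h]
        have h2 : twist Q M a (rv Q M k c) = X (k, canon Q M (canon Q M c + a)) := by
          rw [h1, twist, aeval_X]
          show rv Q M k (canon Q M c + a) = _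
          rw [rv, if_pos ⟨h.1, hca⟩]
        rw [h2, h1, hmul, hmul, Pop_canon hM hQ hca, ih, Pop_Dlin hM hQ ha hcan]
      · have h1 : rv Q M k c = 0 := by rw [rv, if_neg h]
        rw [h1, map_zero, zero_mul, zero_mul, map_zero, map_zero]

end glob

end Cfsg.Agent.H421.GU
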